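import Mathlib
import Cfsg.Agent.Helper71.BSW.Defs

/-!
# S3282 (helper71), piece (A0a): structure of `H = C(t) = K ∪ sK`.
-/

set_option autoImplicit false
set_option linter.unusedVariables false

namespace Cfsg.Agent.Helper34.BSW

open Cfsg.Agent.Helper71.BSW

section
variable {G : Type*} [Group G] {t s : G} {K : Subgroup G}

theorem A0a_s_mul_s (h : Hyp t s K) : s * s = 1 := by
  have := pow_orderOf_eq_one s
  rwa [h.hs, pow_two] at this

theorem A0a_s_inv (h : Hyp t s K) : s⁻¹ = s :=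
  inv_eq_of_mul_eq_one_left (A0a_s_mul_s h)

theorem A0a_sxs (h : Hyp t s K) {x : G} (hx : x ∈ K) : s * x * s = x⁻¹ := by
  have := h.hinv x hx
  rwa [A0a_s_inv h] at this

theorem A0a_xs (h : Hyp t s K) {x : G} (hx : x ∈ K) : x * s = s * x⁻¹ := by
  have h1 := A0a_sxs h hx
  have h2 := A0a_s_mul_s h
  calc x * s = (s * s) * (x * s) := by rw [h2, one_mul]
    _ = s * (s * x * s) := by group
    _ = s * x⁻¹ := by rw [h1]

/-- the subgroup `K ∪ sK` -/
def A0a_M (h : Hyp t s K) : Subgroup G where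
  carrier := {g | g ∈ K ∨ ∃ x ∈ K, g = s * x}
  one_mem' := Or.inl K.one_mem
  mul_mem' := by
    rintro a b (ha | ⟨x, hx, rfl⟩) (hb | ⟨y, hy, rfl⟩)
    · exact Or.inl (K.mul_mem ha hb)
    · refine Or.inr ⟨a⁻¹ * y, K.mul_mem (K.inv_mem ha) hy, ?_⟩
      rw [← mul_assoc, A0a_xs h ha, mul_assoc]
    · exact Or.inr ⟨x * b, K.mul_mem hx hb, by rw [mul_assoc]⟩
    · refine Or.inl ?_
      have : s * x * (s * y) = (s * x * s) * y := by group
      rw [this, A0a_sxs h hx]
      exact K.mul_mem (K.inv_mem hx) hy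
  inv_mem' := by
    rintro a (ha | ⟨x, hx, rfl⟩)
    · exact Or.inl (K.inv_mem ha)
    · refine Or.inr ⟨x, hx, ?_⟩
      rw [mul_inv_rev, A0a_s_inv h, A0a_xs h (K.inv_mem hx), inv_inv]

theorem A0a_cases (h : Hyp t s K) :
    ∀ g ∈ Subgroup.centralizer ({t} : Set G), g ∈ K ∨ ∃ x ∈ K, g = s * x := by
  intro g hg
  rw [← h.hH] at hg
  have hle : K ⊔ Subgroup.zpowers s ≤ A0a_M h := by
    apply sup_le
    · intro a ha
      exact Or.inl ha
    · rw [Subgroup.zpowers_le]
      exact Or.inr ⟨1, K.one_mem, (mul_one s).symm⟩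
  exact hle hg

end

theorem factsA0a {G : Type*} [Group G] [Finite G] {t s : G} {K : Subgroup G} (h : Hyp t s K) :
    Nat.card (Subgroup.centralizer ({t} : Set G)) = 2 * Nat.card K ∧
    (∀ g ∈ Subgroup.centralizer ({t} : Set G), g ∈ K ∨ ∃ x ∈ K, g = s * x) ∧
    (∀ x ∈ K, orderOf (s * x) = 2) ∧
    (∀ x ∈ K, ∀ y ∈ K, (s * x) * y * (s * x)⁻¹ = y⁻¹) := by
  have hss := A0a_s_mul_s h
  have hsinv := A0a_s_inv h
  refine ⟨?_, A0a_cases h, ?_, ?_⟩
  · -- index 2
    set H : Subgroup G := Subgroup.centralizer ({t} : Set G) with hH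
    have hidx : (K.subgroupOf H).index = 2 := by
      rw [Subgroup.index_eq_two_iff]
      refine ⟨⟨s, h.hsH⟩, ?_⟩
      rintro ⟨b, hb⟩
      simp only [Subgroup.mem_subgroupOf, Subgroup.coe_mul]
      rcases A0a_cases h b hb with hbK | ⟨x, hx, rfl⟩
      · refine Or.inr ⟨hbK, ?_⟩
        intro hc
        have : s ∈ K := by
          have := K.mul_mem (K.inv_mem hbK) hc
          rwa [inv_mul_cancel_left] at this
        exact h.hsK this
      · refine Or.inl ⟨?_, ?_⟩
        · rw [A0a_sxs h hx]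
          exact K.inv_mem hx
        · intro hc
          have : s ∈ K := by
            have := K.mul_mem hc (K.inv_mem hx)
            rwa [mul_inv_cancel_right] at this
          exact h.hsK this
    have hcard := Subgroup.card_mul_index (K.subgroupOf H)
    rw [hidx] at hcard
    have hKe : Nat.card (K.subgroupOf H) = Nat.card K :=
      Nat.card_congr (Subgroup.subgroupOfEquivOfLe h.hKH).toEquiv
    rw [← hcard, hKe, mul_comm]
  · intro x hx
    have : Fact (Nat.Prime 2) := ⟨Nat.prime_two⟩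
    apply orderOf_eq_prime
    · rw [pow_two]
      have : s * x * (s * x) = (s * x * s) * x := by group
      rw [this, A0a_sxs h hx, inv_mul_cancel]
    · intro hc
      have : s = x⁻¹ := eq_inv_of_mul_eq_one_left hc
      exact h.hsK (this ▸ K.inv_mem hx)
  · intro x hx y hy
    have h1 : x * y * x⁻¹ = y := by
      rw [h.hKab x hx y hy, mul_inv_cancel_right]
    calc s * x * y * (s * x)⁻¹ = s * (x * y * x⁻¹) * s⁻¹ := by group
      _ = y⁻¹ := by rw [h1, h.hinv y hy]

end Cfsg.Agent.Helper34.BSW
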