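import Mathlib
import Cfsg.Agent.Helper71.BSW.DefsCT

/-!
# S3282 (helper71), piece (T1): basic facts about `theta K μ = (1_K - μ)^G`.
-/

set_option autoImplicit false
set_option linter.unusedVariables false

namespace Cfsg.Agent.Helper34.BSW

open Cfsg Cfsg.Agent.Helper71.BSW

theorem t_theta_basic {G : Type*} [Group G] [Fintype G] (K : Subgroup G) :
    (∀ μ : K →* ℂˣ, theta K μ 1 = 0) ∧
    (∀ (μ : K →* ℂˣ) (g x : G), theta K μ (x * g * x⁻¹) = theta K μ g) ∧
    (∀ (μ : K →* ℂˣ) (g : G), (∀ x : G, x * g * x⁻¹ ∉ K) → theta K μ g = 0) := by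
  refine ⟨?_, ?_, ?_⟩
  · intro μ
    unfold theta Cfsg.indFun
    have hterm : ∀ x : G, Cfsg.extendByZero K (fun y : K => 1 - ((μ y : ℂˣ) : ℂ))
        (x⁻¹ * 1 * x) = 0 := by
      intro x
      have h1 : x⁻¹ * 1 * x = ((1 : K) : G) := by simp
      rw [h1]
      unfold Cfsg.extendByZero
      rw [Function.Injective.extend_apply Subtype.val_injective]
      simp
    rw [Finset.sum_eq_zero (fun x _ => hterm x), mul_zero]
  · intro μ g x₀
    unfold theta Cfsg.indFun
    congr 1
    apply Fintype.sum_equiv (Equiv.mulLeft x₀⁻¹)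
    intro x
    congr 1
    simp only [Equiv.coe_mulLeft]
    group
  · intro μ g hg
    unfold theta Cfsg.indFun
    have hterm : ∀ x : G, Cfsg.extendByZero K (fun y : K => 1 - ((μ y : ℂˣ) : ℂ))
        (x⁻¹ * g * x) = 0 := by
      intro x
      unfold Cfsg.extendByZero
      rw [Function.extend_apply']
      · rfl
      · rintro ⟨a, ha⟩
        have := hg x⁻¹
        rw [inv_inv] at this
        apply this
        rw [← ha]
        exact a.2
    rw [Finset.sum_eq_zero (fun x _ => hterm x), mul_zero]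

end Cfsg.Agent.Helper34.BSW
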