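import Mathlib
import Cfsg.Agent.Helper71.BSW.DefsCT
import Cfsg.Agent.Helper15.IndChar
import Cfsg.Agent.Helper74.CharComplete
import Cfsg.Agent.Helper80.Linear
import Cfsg.Agent.Helper79.Linear

/-!
# S3282 (helper71), piece (T3): `theta K μ` is a generalized character: integer multiplicities and
expansion in irreducibles.
-/

set_option autoImplicit false
set_option linter.unusedVariables false

namespace Cfsg.Agent.Helper34.BSW

open Cfsg Cfsg.Agent.Helper71.BSW
open scoped ComplexConjugate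

theorem theta_eq_sub {G : Type*} [Group G] [Fintype G] (K : Subgroup G) (μ : K →* ℂˣ) :
    theta K μ = Cfsg.indFun K (fun _ : K => (1 : ℂ)) -
      Cfsg.indFun K (fun y : K => ((μ y : ℂˣ) : ℂ)) := by
  unfold theta
  rw [← Cfsg.Agent.Helper15.indFun_sub]
  rfl

theorem t_coef_expand {G : Type*} [Group G] [Fintype G] [Fintype (IrrCharacter G)]
    (K : Subgroup G) :
    (∀ (μ : K →* ℂˣ) (χ : IrrCharacter G), ∃ n : ℤ, coef K μ χ = (n : ℂ)) ∧
    (∀ (μ : K →* ℂˣ) (g : G),
    theta K μ g = ∑ χ : IrrCharacter G, coef K μ χ * (χ : G → ℂ) g) := by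
  have h1 : IsCharacter K (fun _ : K => (1 : ℂ)) :=
    Cfsg.Agent.Helper74.isCharacter_of_isIrr (Cfsg.Agent.Helper79.principalIrr K).2
  have hμ : ∀ μ : K →* ℂˣ, IsCharacter K (fun y : K => ((μ y : ℂˣ) : ℂ)) := fun μ =>
    Cfsg.Agent.Helper74.isCharacter_of_isIrr (Cfsg.Agent.Helper80.isIrrCharacter_of_monoidHom μ)
  have hA := Cfsg.Agent.Helper15.isCharacter_indFun K h1
  have hB := fun μ => Cfsg.Agent.Helper15.isCharacter_indFun K (hμ μ)
  refine ⟨?_, ?_⟩
  · intro μ χ
    obtain ⟨a, ha⟩ := Cfsg.Agent.Helper74.isCharacter_inner_irr_nat hA χ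
    obtain ⟨b, hb⟩ := Cfsg.Agent.Helper74.isCharacter_inner_irr_nat (hB μ) χ
    refine ⟨(a : ℤ) - (b : ℤ), ?_⟩
    unfold coef
    rw [theta_eq_sub, Cfsg.Agent.Helper74.classInner_sub_left, ha, hb]
    push_cast
    rfl
  · intro μ g
    have hcl : IsClassFunction G (theta K μ) := by
      rw [theta_eq_sub]
      intro g h
      rw [Pi.sub_apply, Pi.sub_apply,
        Cfsg.Agent.Helper74.isClassFunction_of_isCharacter hA g h,
        Cfsg.Agent.Helper74.isClassFunction_of_isCharacter (hB μ) g h]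
    have := congrFun (Cfsg.Agent.Helper74.classFunction_eq_sum_irr hcl) g
    rw [Finset.sum_apply] at this
    rw [this]
    apply Finset.sum_congr rfl
    intro χ _
    rw [Pi.smul_apply, smul_eq_mul]
    rfl

end Cfsg.Agent.Helper34.BSW
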