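import Mathlib
import Cfsg.Agent.Helper71.BSW.DefsCT
import Cfsg.Agent.Helper79.CharBasic

/-!
# S3282 (helper71), piece (T4b): Gram matrix of the multiplicity vectors (Parseval).
-/

set_option autoImplicit false
set_option linter.unusedVariables false

namespace Cfsg.Agent.Helper34.BSW

open Cfsg Cfsg.Agent.Helper71.BSW
open scoped ComplexConjugate

theorem t_gram {G : Type*} [Group G] [Fintype G] [Fintype (IrrCharacter G)] {t s : G} {K : Subgroup G}
    [Fintype ↥K] [Fintype (↥K →* ℂˣ)]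
    
    (h_inner_theta : ∀ μ ν : K →* ℂˣ, μ ≠ 1 → ν ≠ 1 →
    classInner (theta K μ) (theta K ν) = 2 + ind μ ν + ind μ ν⁻¹)
    (h_coef_int : ∀ (μ : K →* ℂˣ) (χ : IrrCharacter G), ∃ n : ℤ, coef K μ χ = (n : ℂ))
    (h_theta_expand : ∀ (μ : K →* ℂˣ) (g : G),
    theta K μ g = ∑ χ : IrrCharacter G, coef K μ χ * (χ : G → ℂ) g)
    :
    ∀ μ ν : K →* ℂˣ, μ ≠ 1 → ν ≠ 1 →
    ∑ χ : IrrCharacter G, coef K μ χ * coef K ν χ = 2 + ind μ ν + ind μ ν⁻¹ := by
  intro μ ν hμ hν
  have hfun : theta K ν = ∑ χ : IrrCharacter G, coef K ν χ • (χ : G → ℂ) := by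
    funext g
    rw [h_theta_expand ν g, Finset.sum_apply]
    apply Finset.sum_congr rfl
    intro χ _
    rw [Pi.smul_apply, smul_eq_mul]
  have key : classInner (theta K μ) (theta K ν) =
      ∑ χ : IrrCharacter G, coef K μ χ * coef K ν χ := by
    conv_lhs => rw [hfun]
    rw [Cfsg.Agent.Helper79.classInner_sum_right]
    apply Finset.sum_congr rfl
    intro χ _
    rw [Cfsg.Agent.Helper79.classInner_smul_right]
    obtain ⟨n, hn⟩ := h_coef_int ν χ
    rw [hn, map_intCast, mul_comm]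
    rfl
  rw [← key]
  exact h_inner_theta μ ν hμ hν

end Cfsg.Agent.Helper34.BSW
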